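import Cfsg.Agent.H322.XR.Cen
import Cfsg.Agent.H352.KE.Line
import Cfsg.Agent.H994.KE.Base

/-!
# The torus model modulo `p ^ N` and the elements of order `p` (S4791, S4927; helper322)

* `mem_lam_iff` : the functionals of the model (untwisted group) are the eigenvectors of the matrix of `w`;
* `fra` : the model has the properties `Fra` of `H352.KE.RankTwo`;
* `fus_bar`, `fus_pow_bar`, `not_fus_bar` : fusion of the elements `X (p ^ (N - 1) c)` of order `p`;
* `centralizer_bar` : the centralizer of `X (p ^ (N - 1) c)` is the centralizer of `X c` if the root values of `c` are zero or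
  units.
-/

set_option autoImplicit false
set_option linter.unusedSectionVars false

namespace Cfsg.Agent.H322.XR

open CoxeterSystem Cfsg Cfsg.Lie Cfsg.Lie.ChevalleyDatum
open Cfsg.Agent.ChevalleyStructure Cfsg.Agent.ChevalleyStructure.Elts Cfsg.Agent.ChevalleyStructure.CoxeterGeom
  Cfsg.Agent.ChevalleyStructure.CoxeterGeomTypes Cfsg.Agent.ChevalleyStructure.NPerm
  Cfsg.Agent.ChevalleyStructure.RootVec
open Cfsg.Agent.Tits.Roots Cfsg.Agent.Tits.Core Cfsg.Agent.Nodes Cfsg.Agent.Nodes.Reps Cfsg.Agent.Nodes.BNOf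
  Cfsg.Agent.Nodes.RGDChev Cfsg.Agent.Nodes.Bruhat Cfsg.Agent.Nodes.SubComb Cfsg.Agent.Nodes.Coroot
open Cfsg.Agent.H129.TorusChar Cfsg.Agent.H129.TorusCent Cfsg.Agent.H129.TorusTw Cfsg.Agent.H129.TorusMain
  Cfsg.Agent.H129.WData Cfsg.Agent.H210.EL Cfsg.Agent.H208.XR Cfsg.Agent.H440.TD4 Cfsg.Agent.H352.KE

universe u v

variable {D : ChevalleyDatum} {l : ℕ} {M : CoxeterMatrix (Fin l)} {hp : IsType D l M}

/-- the model of an isomorphic group -/
theorem congr_model {N Q : ℕ} {g : (Fin l → ℤ) ≃+ (Fin l → ℤ)} {w : M.Group} {G : Type u} [Group G] {G' : Type v}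
    [Group G'] {X : (Fin l → ZMod N) → G} (H : ModelN hp N Q g w X) (e : G' ≃* G) :
    ModelN hp N Q g w (fun c => e.symm (X c)) where
  add c hc c' hc' := by rw [H.add c hc c' hc', map_mul]
  inj c hc h := H.inj c hc (e.symm.injective (by rw [h, map_one]))
  act v hv := by
    obtain ⟨m, hm⟩ := H.act v hv
    refine ⟨e.symm m, fun c hc c' hc' h => ?_⟩
    rw [← hm c hc c' hc' h, map_mul, map_mul, map_inv]
  fus := by
    intro ι _ c c' hc hc' h hh
    refine H.fus c c' hc hc' (e h) fun i => ?_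
    have h1 := congrArg e (hh i)
    rwa [map_mul, map_mul, map_inv, e.apply_symm_apply, e.apply_symm_apply] at h1
  reg := H.reg
  cen c hc c' hc' hr h hh := by
    have h1 := H.cen c hc c' hc' hr (e h) (by
      have h2 := congrArg e hh
      rwa [map_mul, map_mul, e.apply_symm_apply] at h2)
    apply e.injective
    rw [map_mul, map_mul, e.apply_symm_apply, h1]
  tw := H.tw

/-- the functionals of the model -/
theorem mem_lam_iff {A : Mat l} (hA : ∀ i j, A i j = cartanOf D l i j) {Cw : List (Fin l × Mat l)}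
    (hw : ChainOK A Cw) {N Q : ℕ} {c : Fin l → ZMod N} :
    c ∈ Lam hp N Q (AddEquiv.refl (Fin l → ℤ)) (M.toCoxeterSystem.wordProd (Cw.map Prod.fst)) ↔
      H210.EL.EigOK (hd Cw) (Q : ZMod N) c := by
  have hwr := chain_rep hp M.toCoxeterSystem hA hw
  constructor
  · intro h j
    have h1 := h (sr j)
    rw [AddEquiv.refl_apply, hwr j, lam_sr] at h1
    exact h1
  · intro h x
    rw [AddEquiv.refl_apply, lam_rep hp hwr h]

theorem rts_eq (hp : IsType D l M) {N : ℕ} {c c' : Fin l → ZMod N} {w : M.Group}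
    (h : ∀ x, lam c' (rep M.toCoxeterSystem hp.isCartan w x) = lam c x) : rts D l c = rts D l c' := by
  obtain ⟨π, hπ⟩ := H994.KE.exists_perm hp w
  unfold rts
  have h1 : (Finset.univ : Finset (Fin D.nroots)).val = Multiset.map π Finset.univ.val :=
    (congrArg Finset.val (Finset.map_univ_equiv π)).symm
  conv_rhs => rw [h1, Multiset.map_map]
  refine Multiset.map_congr rfl fun s _ => ?_
  rw [Function.comp_apply, hπ, h]

section fra

variable {F : Type u} [Field F] [Fintype F] {N : ℕ} {A : Mat l} {Cw : List (Fin l × Mat l)} {G : Type v} [Group G]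
  {X : (Fin l → ZMod N) → G}

/-- **The model has the properties `Fra`.** -/
theorem fra (hA : ∀ i j, A i j = cartanOf D l i j) (hw : ChainOK A Cw)
    (H : ModelN hp N (Fintype.card F) (AddEquiv.refl (Fin l → ℤ)) (M.toCoxeterSystem.wordProd (Cw.map Prod.fst)) X) :
    Fra D l F N A (hd Cw) G X where
  add a b ha hb := H.add a ((mem_lam_iff hA hw).2 ha) b ((mem_lam_iff hA hw).2 hb)
  inj a ha h := H.inj a ((mem_lam_iff hA hw).2 ha) h
  act Cv hv hc := by
    have hwr := chain_rep hp M.toCoxeterSystem hA hw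
    have hvr := chain_rep hp M.toCoxeterSystem hA hv
    obtain ⟨m, hm⟩ := H.act (M.toCoxeterSystem.wordProd (Cv.map Prod.fst)) (by
      intro x
      rw [AddEquiv.refl_apply, AddEquiv.refl_apply]
      have h1 := ext_sr ((rep M.toCoxeterSystem hp.isCartan (M.toCoxeterSystem.wordProd (Cv.map Prod.fst))).toAddMonoidHom.comp
          (rep M.toCoxeterSystem hp.isCartan (M.toCoxeterSystem.wordProd (Cw.map Prod.fst))).toAddMonoidHom)
        ((rep M.toCoxeterSystem hp.isCartan (M.toCoxeterSystem.wordProd (Cw.map Prod.fst))).toAddMonoidHom.comp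
          (rep M.toCoxeterSystem hp.isCartan (M.toCoxeterSystem.wordProd (Cv.map Prod.fst))).toAddMonoidHom) (fun j => by
            show rep M.toCoxeterSystem hp.isCartan _ (rep M.toCoxeterSystem hp.isCartan _ (sr j)) =
              rep M.toCoxeterSystem hp.isCartan _ (rep M.toCoxeterSystem hp.isCartan _ (sr j))
            funext m
            rw [H795.TorsData.rep_of_sr hp M.toCoxeterSystem hvr, H795.TorsData.rep_of_sr hp M.toCoxeterSystem hwr,
              hwr, hvr]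
            exact (hc j m).symm) x
      exact h1)
    refine ⟨m, fun a b ha hb hab => hm a ((mem_lam_iff hA hw).2 ha) b ((mem_lam_iff hA hw).2 hb) fun x => ?_⟩
    have h3 := ext_sr ((lamHom b).comp
      (rep M.toCoxeterSystem hp.isCartan (M.toCoxeterSystem.wordProd (Cv.map Prod.fst))).toAddMonoidHom) (lamHom a)
      (fun i => by
        show lam b (rep M.toCoxeterSystem hp.isCartan _ (sr i)) = lam a (sr i)
        rw [hvr i, lam_sr]
        exact hab i) x
    exact h3
  fus a b ha hb h := by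
    obtain ⟨c, hc⟩ := isConj_iff.1 h
    obtain ⟨w', hw'⟩ := H.fus (ι := Unit) (fun _ => a) (fun _ => b) (fun _ => (mem_lam_iff hA hw).2 ha)
      (fun _ => (mem_lam_iff hA hw).2 hb) c (fun _ => hc)
    exact rts_eq hp (hw' ())

end fra

/-! ### reduction modulo `p` -/

section bar

variable {p : ℕ} [hpp : Fact p.Prime] {N : ℕ}

theorem dvd_pw (hN : N ≠ 0) : p ∣ p ^ N := dvd_pow_self p hN

/-- reduction modulo `p` -/
def bar (hN : N ≠ 0) (c : Fin l → ZMod (p ^ N)) : Fin l → ZMod p := fun i => ZMod.castHom (dvd_pw hN) (ZMod p) (c i)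

theorem lam_bar (hN : N ≠ 0) (c : Fin l → ZMod (p ^ N)) (x : Fin l → ℤ) :
    lam (bar hN c) x = ZMod.castHom (dvd_pw hN) (ZMod p) (lam c x) := by
  unfold lam bar
  rw [map_sum]
  refine Finset.sum_congr rfl fun n _ => ?_
  rw [map_mul, map_intCast]

theorem bar_smul (hN : N ≠ 0) (i : ZMod (p ^ N)) (c : Fin l → ZMod (p ^ N)) :
    bar hN (i • c) = ZMod.castHom (dvd_pw hN) (ZMod p) i • bar hN c := by
  funext j
  unfold bar
  rw [Pi.smul_apply, smul_eq_mul, map_mul, Pi.smul_apply, smul_eq_mul]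

theorem mul_eq_zero_iff_bar (hN : N ≠ 0) (z : ZMod (p ^ N)) :
    ((p ^ (N - 1) : ℕ) : ZMod (p ^ N)) * z = 0 ↔ ZMod.castHom (dvd_pw hN) (ZMod p) z = 0 := by
  have hp' := hpp.out
  have : NeZero (p ^ N) := ⟨pow_ne_zero _ hp'.ne_zero⟩
  obtain ⟨n, rfl⟩ : ∃ n, N = n + 1 := ⟨N - 1, by omega⟩
  rw [Nat.add_sub_cancel]
  obtain ⟨k, rfl⟩ : ∃ k : ℕ, z = (k : ZMod (p ^ (n + 1))) := ⟨z.val, (ZMod.natCast_zmod_val z).symm⟩
  rw [← Nat.cast_mul, ZMod.natCast_eq_zero_iff, map_natCast, ZMod.natCast_eq_zero_iff, pow_succ]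
  exact Nat.mul_dvd_mul_iff_left (pow_pos hp'.pos n)

theorem psum_bar_eq_of_rts {c c' : Fin l → ZMod p} (h : rts D l c = rts D l c') (k : ℕ) : psum D c k = psum D c' k :=
  psum_eq_of_rts h k

end bar

section barmodel

variable {p : ℕ} [hpp : Fact p.Prime] {N Q : ℕ} {w : M.Group} {g : (Fin l → ℤ) ≃+ (Fin l → ℤ)} {G : Type v} [Group G]
  {X : (Fin l → ZMod (p ^ N)) → G} (H : ModelN hp (p ^ N) Q g w X)

include H

/-- fusion of the elements of order `p` -/
theorem fus_bar (hN : N ≠ 0) {c c' : Fin l → ZMod (p ^ N)} (hc : c ∈ Lam hp (p ^ N) Q g w)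
    (hc' : c' ∈ Lam hp (p ^ N) Q g w) {h : G}
    (hh : h * X c ^ p ^ (N - 1) * h⁻¹ = X c' ^ p ^ (N - 1)) :
    ∃ w' : M.Group, ∀ x, lam (bar hN c') (rep M.toCoxeterSystem hp.isCartan w' x) = lam (bar hN c) x := by
  rw [← X_nsmul H hc, ← X_nsmul H hc'] at hh
  obtain ⟨w', hw'⟩ := H.fus (ι := Unit) (fun _ => ((p ^ (N - 1) : ℕ) : ZMod (p ^ N)) • c)
    (fun _ => ((p ^ (N - 1) : ℕ) : ZMod (p ^ N)) • c') (fun _ => Lam.smul hp _ hc) (fun _ => Lam.smul hp _ hc') h
    (fun _ => hh)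
  refine ⟨w', fun x => ?_⟩
  have h1 := hw' () x
  rw [lam_smul', lam_smul', ← sub_eq_zero, ← mul_sub, mul_eq_zero_iff_bar hN, map_sub, sub_eq_zero] at h1
  rw [lam_bar, lam_bar]
  exact h1

/-- fusion of the powers of an element of order `p` -/
theorem fus_pow_bar (hN : N ≠ 0) {c : Fin l → ZMod (p ^ N)} (hc : c ∈ Lam hp (p ^ N) Q g w) {k : ℕ} {C : ZMod p}
    (hC : psum D (bar hN c) k = C) (hC0 : C ≠ 0) (h : G) (i : ℕ)
    (hh : h * X c ^ p ^ (N - 1) * h⁻¹ = (X c ^ p ^ (N - 1)) ^ i) : (i : ZMod p) ^ k = 1 := by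
  have h1 : (X c ^ p ^ (N - 1)) ^ i = X ((i : ZMod (p ^ N)) • c) ^ p ^ (N - 1) := by
    rw [X_nsmul H hc, ← pow_mul, ← pow_mul, mul_comm]
  rw [h1] at hh
  obtain ⟨w', hw'⟩ := fus_bar H hN hc (Lam.smul hp _ hc) hh
  have h2 := psum_eq_of_rts (rts_eq hp hw') k
  rw [bar_smul, map_natCast, psum_smul, hC] at h2
  have h3 : ((i : ZMod p) ^ k - 1) * C = 0 := by linear_combination -h2
  exact sub_eq_zero.1 ((mul_eq_zero.1 h3).resolve_right hC0)

/-- elements of order `p` which are not fused -/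
theorem not_fus_bar (hN : N ≠ 0) {a b : Fin l → ZMod (p ^ N)} (ha : a ∈ Lam hp (p ^ N) Q g w)
    (hb : b ∈ Lam hp (p ^ N) Q g w) {k : ℕ} {Ca Ca' Cb Cb' : ZMod p} (hCa : psum D (bar hN a) k = Ca)
    (hCa' : psum D (bar hN a) (2 * k) = Ca') (hCb : psum D (bar hN b) k = Cb)
    (hCb' : psum D (bar hN b) (2 * k) = Cb') (h0 : Cb' * Ca ^ 2 - Ca' * Cb ^ 2 ≠ 0) (h : G) (i : ℕ) :
    h * X b ^ p ^ (N - 1) * h⁻¹ ≠ (X a ^ p ^ (N - 1)) ^ i := by
  intro hh
  have h1 : (X a ^ p ^ (N - 1)) ^ i = X ((i : ZMod (p ^ N)) • a) ^ p ^ (N - 1) := by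
    rw [X_nsmul H ha, ← pow_mul, ← pow_mul, mul_comm]
  rw [h1] at hh
  obtain ⟨w', hw'⟩ := fus_bar H hN hb (Lam.smul hp _ ha) hh
  have h2 := psum_eq_of_rts (rts_eq hp hw') k
  have h3 := psum_eq_of_rts (rts_eq hp hw') (2 * k)
  rw [bar_smul, map_natCast, psum_smul, hCb, hCa] at h2
  rw [bar_smul, map_natCast, psum_smul, hCb', hCa'] at h3
  apply h0
  rw [h2, h3]
  ring

/-- centralizers of the elements of order `p` -/
theorem centralizer_bar (hN : N ≠ 0) {c : Fin l → ZMod (p ^ N)} (hc : c ∈ Lam hp (p ^ N) Q g w)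
    (hr : ∀ s : Fin D.nroots, lam c (vec D l s) = 0 ∨ IsUnit (lam c (vec D l s))) :
    Subgroup.centralizer ({X c ^ p ^ (N - 1)} : Set G) = Subgroup.centralizer ({X c} : Set G) := by
  ext h
  rw [Subgroup.mem_centralizer_singleton_iff, Subgroup.mem_centralizer_singleton_iff]
  constructor
  · intro hh
    rw [← X_nsmul H hc] at hh
    refine H.cen c hc _ (Lam.smul hp _ hc) (fun s hs => ?_) h hh
    rcases hr s with h1 | h1
    · exact h1
    · exfalso
      rw [lam_smul', mul_eq_zero_iff_bar hN] at hs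
      have h2 := h1.map (ZMod.castHom (dvd_pw hN) (ZMod p))
      rw [hs] at h2
      exact not_isUnit_zero h2
  · intro hh
    exact ((show Commute h (X c) from hh).pow_right _).eq

end barmodel

end Cfsg.Agent.H322.XR
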