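import Cfsg.Agent.H208.XR.Frame

/-!
# The number of elements of the Weyl group which commute with `w` (S4791, S4927; helper322)

A walk of matrices `W₀ = W, W₁, …` of the conjugates of `w` by simple reflections; if the walk has `n` different
matrices then `n * |C(w)| ≤ |W|`.
-/

set_option autoImplicit false
set_option linter.unusedSectionVars false

namespace Cfsg.Agent.H322.XR

open CoxeterSystem Cfsg Cfsg.Lie Cfsg.Lie.ChevalleyDatum
open Cfsg.Agent.ChevalleyStructure Cfsg.Agent.ChevalleyStructure.Elts Cfsg.Agent.ChevalleyStructure.CoxeterGeom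
  Cfsg.Agent.ChevalleyStructure.CoxeterGeomTypes Cfsg.Agent.ChevalleyStructure.NPerm
  Cfsg.Agent.ChevalleyStructure.RootVec
open Cfsg.Agent.Tits.Roots Cfsg.Agent.Tits.Core Cfsg.Agent.Nodes Cfsg.Agent.Nodes.Reps Cfsg.Agent.Nodes.BNOf
  Cfsg.Agent.Nodes.RGDChev Cfsg.Agent.Nodes.Bruhat Cfsg.Agent.Nodes.SubComb Cfsg.Agent.Nodes.Coroot
open Cfsg.Agent.H129.TorusChar Cfsg.Agent.H129.TorusCent Cfsg.Agent.H129.TorusTw Cfsg.Agent.H129.TorusMain
  Cfsg.Agent.H129.WData Cfsg.Agent.H210.EL Cfsg.Agent.H208.XR Cfsg.Agent.H440.TD4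

/-- the first matrix of a walk -/
def hdw {l : ℕ} (W : Mat l) : List (Fin l × Mat l) → Mat l
  | [] => W
  | (_, U) :: _ => U

/-- a walk of matrices of conjugates by simple reflections -/
def WalkOK {l : ℕ} (A W : Mat l) : List (Fin l × Mat l) → Prop
  | [] => True
  | (i, U) :: L => (∀ j m, U j m = (hdw W L j m - A i j * hdw W L i m) -
      if m = i then ∑ n, A i n * (hdw W L j n - A i j * hdw W L i n) else 0) ∧ WalkOK A W L

instance decWalkOK {l : ℕ} (A W : Mat l) : ∀ L : List (Fin l × Mat l), Decidable (WalkOK A W L)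
  | [] => isTrue trivial
  | (i, U) :: L =>
    have := decWalkOK A W L
    inferInstanceAs (Decidable ((∀ j m, U j m = (hdw W L j m - A i j * hdw W L i m) -
      if m = i then ∑ n, A i n * (hdw W L j n - A i j * hdw W L i n) else 0) ∧ WalkOK A W L))

section

variable {D : ChevalleyDatum} {l : ℕ} {M : CoxeterMatrix (Fin l)} (hp : IsType D l M)
  {G : Type*} [Group G] (cs : CoxeterSystem M G)

theorem pairing_sr (i j : Fin l) : pairing (cartanOf D l) i (sr j) = cartanOf D l i j := by
  unfold pairing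
  rw [Finset.sum_eq_single j]
  · rw [sr_self, mul_one]
  · intro n _ hn
    rw [sr_ne hn, mul_zero]
  · intro h
    exact absurd (Finset.mem_univ _) h

theorem step_rep {A : Mat l} (hA : ∀ i j, A i j = cartanOf D l i j) {w : G} {W U : Mat l} {i : Fin l}
    (hw : ∀ j, rep cs hp.isCartan w (sr j) = W j)
    (h : ∀ j m, U j m = (W j m - A i j * W i m) - if m = i then ∑ n, A i n * (W j n - A i j * W i n) else 0) (j : Fin l) :
    rep cs hp.isCartan (cs.simple i * w * (cs.simple i)⁻¹) (sr j) = U j := by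
  have h1 : rep cs hp.isCartan w (sr j - pairing (cartanOf D l) i (sr j) • sr i) = W j - A i j • W i := by
    rw [pairing_sr, map_sub, map_zsmul, hw, hw, hA]
  rw [inv_simple, rep_mul_apply, rep_mul_apply, rep_simple_eq cs hp.isCartan i (sr j), h1, rep_simple_eq]
  funext m
  rw [h, Pi.sub_apply, Pi.sub_apply, Pi.smul_apply, Pi.smul_apply, smul_eq_mul, smul_eq_mul]
  have e : pairing (cartanOf D l) i (W j - A i j • W i) = ∑ n, A i n * (W j n - A i j * W i n) := by
    unfold pairing
    exact Finset.sum_congr rfl fun n _ => by rw [hA, Pi.sub_apply, Pi.smul_apply, smul_eq_mul, hA]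
  rw [e]
  by_cases hm : m = i
  · subst hm; rw [if_pos rfl, sr_self, mul_one]
  · rw [if_neg hm, sr_ne hm, mul_zero]

theorem walk_rep {A : Mat l} (hA : ∀ i j, A i j = cartanOf D l i j) {w : G} {W : Mat l}
    (hw : ∀ j, rep cs hp.isCartan w (sr j) = W j) {L : List (Fin l × Mat l)} (h : WalkOK A W L) :
    ∃ v : G, ∀ j, rep cs hp.isCartan (v * w * v⁻¹) (sr j) = hdw W L j := by
  induction L with
  | nil => exact ⟨1, fun j => by rw [one_mul, inv_one, mul_one]; exact hw j⟩
  | cons x L ih =>
    obtain ⟨i, U⟩ := x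
    obtain ⟨h1, h2⟩ := h
    obtain ⟨v, hv⟩ := ih h2
    refine ⟨cs.simple i * v, fun j => ?_⟩
    have e : cs.simple i * v * w * (cs.simple i * v)⁻¹ = cs.simple i * (v * w * v⁻¹) * (cs.simple i)⁻¹ := by group
    rw [e]
    exact step_rep hp cs hA hv h1 j

theorem walk_all {A : Mat l} (hA : ∀ i j, A i j = cartanOf D l i j) {w : G} {W : Mat l}
    (hw : ∀ j, rep cs hp.isCartan w (sr j) = W j) {L : List (Fin l × Mat l)} (h : WalkOK A W L) :
    ∀ U ∈ W :: L.map Prod.snd, ∃ v : G, ∀ j, rep cs hp.isCartan (v * w * v⁻¹) (sr j) = U j := by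
  induction L with
  | nil =>
    intro U hU
    rw [List.map_nil, List.mem_singleton] at hU
    subst hU
    exact walk_rep hp cs hA hw (L := []) trivial
  | cons x L ih =>
    intro U hU
    obtain ⟨i, V⟩ := x
    rw [List.map_cons, List.mem_cons, List.mem_cons] at hU
    rcases hU with rfl | rfl | hU
    · exact ih h.2 _ List.mem_cons_self
    · exact walk_rep hp cs hA hw h
    · exact ih h.2 _ (List.mem_cons_of_mem _ hU)

/-- **The number of elements of the Weyl group which commute with `w`.** -/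
theorem card_Cth_le {A : Mat l} (hA : ∀ i j, A i j = cartanOf D l i j) {w : M.Group} {W : Mat l}
    (hw : ∀ j, rep M.toCoxeterSystem hp.isCartan w (sr j) = W j) {L : List (Fin l × Mat l)} (h : WalkOK A W L)
    (hn : (W :: L.map Prod.snd).Nodup) :
    (L.length + 1) * Nat.card ↥(Cth hp (AddEquiv.refl (Fin l → ℤ)) w) ≤ Nat.card M.Group := by
  classical
  have hWf := finite_W hp M.toCoxeterSystem
  set T := W :: L.map Prod.snd with hT
  have key := walk_all hp M.toCoxeterSystem hA hw h
  choose v hv using fun U : {U // U ∈ T.toFinset} => key U.1 (List.mem_toFinset.1 U.2)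
  have hcard : Nat.card {U // U ∈ T.toFinset} = L.length + 1 := by
    rw [Nat.card_eq_fintype_card, Fintype.card_coe, List.toFinset_card_of_nodup hn, hT, List.length_cons,
      List.length_map]
  rw [← hcard, ← Nat.card_prod]
  refine Nat.card_le_card_of_injective (fun x => v x.1 * x.2.1) ?_
  rintro ⟨U, c⟩ ⟨U', c'⟩ hx
  have hx' : v U * c.1 = v U' * c'.1 := hx
  have hcw : ∀ c : ↥(Cth hp (AddEquiv.refl (Fin l → ℤ)) w), ∀ (v : M.Group) x,
      rep M.toCoxeterSystem hp.isCartan (v * c.1 * w * (v * c.1)⁻¹) x =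
        rep M.toCoxeterSystem hp.isCartan (v * w * v⁻¹) x := by
    intro c v x
    have e : v * c.1 * w * (v * c.1)⁻¹ = v * (c.1 * w) * c.1⁻¹ * v⁻¹ := by group
    rw [e]
    simp only [rep_mul_apply]
    rw [show rep M.toCoxeterSystem hp.isCartan c.1 (rep M.toCoxeterSystem hp.isCartan w
        (rep M.toCoxeterSystem hp.isCartan c.1⁻¹ (rep M.toCoxeterSystem hp.isCartan v⁻¹ x))) =
        rep M.toCoxeterSystem hp.isCartan w (rep M.toCoxeterSystem hp.isCartan c.1
        (rep M.toCoxeterSystem hp.isCartan c.1⁻¹ (rep M.toCoxeterSystem hp.isCartan v⁻¹ x))) from c.2 _,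
      rep_apply_inv]
  have hU : U = U' := by
    apply Subtype.ext
    funext j
    rw [← hv U j, ← hv U' j, ← hcw c (v U), ← hcw c' (v U'), hx']
  subst hU
  have hc : c = c' := Subtype.ext (mul_left_cancel hx')
  rw [hc]

end

end Cfsg.Agent.H322.XR
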