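import Cfsg.Agent.H322.XR.F4Data
import Cfsg.Agent.H352.KE.F4
import Cfsg.Agent.H603.AP.Height

/-!
# `F₄`, Sylow subgroups of rank two: `p + 1 ≤ |X₀(S)|` (S4791, S4927; helper322)
-/

set_option autoImplicit false
set_option linter.unusedSectionVars false

namespace Cfsg.Agent.H322.XR

open Cfsg Cfsg.Lie Cfsg.Lie.ChevalleyDatum Subgroup
open Cfsg.Agent.ChevalleyStructure Cfsg.Agent.ChevalleyStructure.Elts Cfsg.Agent.ChevalleyStructure.CoxeterGeomTypes
open Cfsg.Agent.Nodes.RGDChev Cfsg.Agent.H129.WData Cfsg.Agent.H210.EL Cfsg.Agent.H129.TorusChar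
open Cfsg.Agent.H352.KE Cfsg.Agent.H208.XR Cfsg.Agent.H440.TD4 Cfsg.Agent.H508.XR Cfsg.Agent.H674.XZ

universe u

section gen

variable {p : ℕ} [hpp : Fact p.Prime] {M : Ideal AlgInt} {S : Type u} [Group S] [Finite S]

/-- D6J as a hypothesis -/
def D6J (p : ℕ) [Fact p.Prime] (M : Ideal AlgInt) (S : Type u) [Group S] [Finite S] : Prop :=
  ∀ (x : S) (_ : orderOf x = p) (e b : ℕ)
    (_ : ∀ (g : S) (i : ℕ), g * x * g⁻¹ = x ^ i → (i : ZMod p) ^ e = 1)
    (_ : b ≤ blockRank p (principalBlock M ↥(centralizer ({x} : Set S)))),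
    (p - 1) / e * b + blockRank p (principalBlock M S) ≤ kJ p M S

/-- D8J as a hypothesis -/
def D8J (p : ℕ) [Fact p.Prime] (M : Ideal AlgInt) (S : Type u) [Group S] [Finite S] : Prop :=
  ∀ (x x' : S) (_ : orderOf x = p) (_ : orderOf x' = p) (e e' b b' : ℕ)
    (_ : ∀ (g : S) (i : ℕ), g * x * g⁻¹ = x ^ i → (i : ZMod p) ^ e = 1)
    (_ : ∀ (g : S) (i : ℕ), g * x' * g⁻¹ = x' ^ i → (i : ZMod p) ^ e' = 1)
    (_ : ∀ (g : S) (i : ℕ), g * x * g⁻¹ ≠ x' ^ i)
    (_ : b ≤ blockRank p (principalBlock M ↥(centralizer ({x} : Set S))))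
    (_ : b' ≤ blockRank p (principalBlock M ↥(centralizer ({x'} : Set S)))),
    (p - 1) / e * b + (p - 1) / e' * b' + blockRank p (principalBlock M S) ≤ kJ p M S

/-- the principal block of a simple group with noncyclic Sylow `p`-subgroups has two Brauer characters -/
theorem two_le_rank [IsSimpleGroup S] (hM : IsPModular p M) (hP : ∀ P : Sylow p S, ¬ IsCyclic (P : Subgroup S)) :
    2 ≤ blockRank p (principalBlock M S) := by
  have hp' := hpp.out
  by_contra hlt
  have h1 := H296.KB.one_le_rank (S := S) hM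
  have : Fintype S := Fintype.ofFinite S
  obtain ⟨P, N, hN, hNP⟩ := S4646.compl_of_rank_one (G := S) hM (by omega)
  rcases hN.eq_bot_or_eq_top with h | h
  · -- `S` is a `p`-group
    have h2 : (P : Subgroup S) = ⊤ := by
      rw [h] at hNP
      exact Subgroup.isComplement'_bot_left.1 hNP
    have h3 : IsPGroup p S := by
      have h4 := P.isPGroup'
      rw [h2] at h4
      exact h4.of_equiv Subgroup.topEquiv
    have hnt : Nontrivial S := inferInstance
    have h5 := h3.center_nontrivial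
    have h6 : Subgroup.center S = ⊤ := by
      rcases (Subgroup.center S).normal_of_characteristic.eq_bot_or_eq_top with h6 | h6
      · rw [h6] at h5
        exact absurd h5 (not_nontrivial _)
      · exact h6
    have h7 : ∀ a b : S, a * b = b * a := fun a b => by
      have h8 : a ∈ Subgroup.center S := by rw [h6]; exact Subgroup.mem_top a
      exact (Subgroup.mem_center_iff.1 h8 b).symm
    let : CommGroup S := { (inferInstance : Group S) with mul_comm := h7 }
    have h8 : IsCyclic S := IsSimpleGroup.isCyclic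
    exact hP P inferInstance
  · have h2 : (P : Subgroup S) = ⊥ := by
      rw [h] at hNP
      exact Subgroup.isComplement'_top_left.1 hNP
    apply hP P
    rw [h2]
    infer_instance

theorem two_le_rank' [IsSimpleGroup S] (hM : IsPModular p M) (hP : H508.XR.NC p S) :
    2 ≤ blockRank p (principalBlock M S) := two_le_rank hM hP

theorem bar_qv {l N : ℕ} (hN : N ≠ 0) (t : ZMod (p ^ N)) (A : Fin l → ℤ × ℤ) :
    bar hN (qv t A) = qv (ZMod.castHom (dvd_pw hN) (ZMod p) t) A := by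
  funext i
  unfold bar qv qev
  rw [map_add, map_mul, map_intCast, map_intCast]

theorem orderOf_pow_p {N : ℕ} (hN : N ≠ 0) {x : S} (h : orderOf x = p ^ N) : orderOf (x ^ p ^ (N - 1)) = p := by
  have hp' := hpp.out
  obtain ⟨n, rfl⟩ : ∃ n, N = n + 1 := ⟨N - 1, by omega⟩
  rw [Nat.add_sub_cancel, orderOf_pow_of_dvd (pow_ne_zero _ hp'.ne_zero) (by rw [h]; exact pow_dvd_pow p (by omega)), h,
    pow_succ, Nat.mul_div_cancel_left _ (pow_pos hp'.pos n)]

theorem arith_reg {p m n s r : ℕ} (h2 : m * m ≤ r + s * m) (h3 : n * m + p ^ 2 * s < p ^ 2 * m) (hm0 : 0 < m) :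
    n * (m * m) < p ^ 2 * r := by
  have h4 := Nat.mul_lt_mul_of_pos_right h3 hm0
  have h5 := Nat.mul_le_mul_left (p ^ 2) h2
  rw [add_mul] at h4
  rw [mul_add, ← mul_assoc, ← mul_assoc] at h5
  rw [← mul_assoc]
  omega

variable {D : ChevalleyDatum} {l : ℕ} {Mc : CoxeterMatrix (Fin l)} {hp : IsType D l Mc} {N Q : ℕ} {w : Mc.Group}
  {g : (Fin l → ℤ) ≃+ (Fin l → ℤ)} {X : (Fin l → ZMod (p ^ N)) → S}

/-- **The height condition for tori of rank two.** -/
theorem x0_eq_kJ_rank_two (hM : IsPModular p M) (hN : N ≠ 0) (H : ModelN hp (p ^ N) Q g w X) {a b : Fin l → ZMod (p ^ N)}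
    (ha : a ∈ Lam hp (p ^ N) Q g w) (hb : b ∈ Lam hp (p ^ N) Q g w)
    (hab : ∀ i j : ZMod (p ^ N), i • a + j • b = 0 → i = 0 ∧ j = 0)
    (hr : ∀ s : Fin D.nroots, IsUnit (lam a (vec D l s)) ∨ IsUnit (lam b (vec D l s))) {R : ℕ} (hR : ¬ p ∣ R)
    (hG : Nat.card S = (p ^ N) ^ 2 * R) {n : ℕ} (hn : Nat.card ↥(Cth hp g w) ≤ n)
    (hnum : N ≠ 1 → n * p ^ N + p ^ 2 * D.nroots < p ^ 2 * p ^ N) : x0 p M S = kJ p M S := by
  have hp' := hpp.out
  have hG' : ¬ p ^ (2 * N + 1) ∣ Nat.card S := by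
    rw [hG, ← pow_mul, mul_comm N 2, pow_succ]
    intro h
    exact hR (Nat.dvd_of_mul_dvd_mul_left (pow_pos hp'.pos _) h)
  obtain ⟨hL, P, hP⟩ := H208.XR.exists_sylow H (card_Lam_ge ha hb hab) hG'
  have hPc : Nat.card P = p ^ (2 * N) := by
    rw [← hL, ← card_toSub H, ← hP]
  by_cases h1 : N = 1
  · subst h1
    exact H603.AP.x0_eq_kJ_of_sq hM P hPc
  · refine H603.AP.x0_eq_kJ_of_reg hM P (fun x hx y hy => ?_) (height_hyp H P hP hn ?_)
    · rw [hP] at hx hy
      exact toSub_comm H hx hy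
    · have h2 := card_LamReg_ge ha hb hab hr
      have h3 := hnum h1
      rw [hL]
      have hm2 : p ^ (2 * N) = p ^ N * p ^ N := by rw [two_mul, pow_add]
      rw [hm2] at h2 ⊢
      exact arith_reg h2 h3 (pow_pos hp'.pos _)

end gen

section F4

variable {p : ℕ} [hpp : Fact p.Prime] {M : Ideal AlgInt} {S : Type u} [Group S] [Finite S]

theorem num_F4 (h13 : 13 ≤ p) {N n : ℕ} (hN : N ≠ 0) (hn : n ≤ 96) (h1 : N ≠ 1) :
    n * p ^ N + p ^ 2 * chevF4.nroots < p ^ 2 * p ^ N := by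
  rw [F4.nroots_F4]
  have h2 : 169 ≤ p ^ 2 := by nlinarith
  have h3 : p ^ 2 ≤ p ^ N := Nat.pow_le_pow_right (by omega) (by omega)
  obtain ⟨m, hm⟩ : ∃ m, p ^ N = m := ⟨_, rfl⟩
  obtain ⟨q, hq⟩ : ∃ q, p ^ 2 = q := ⟨_, rfl⟩
  rw [hm, hq] at h3
  rw [hm, hq]
  rw [hq] at h2
  have h4 : n * m ≤ 96 * m := Nat.mul_le_mul_right _ hn
  have h5 : 169 ≤ m := h2.trans h3
  have h6 : 169 * (m - 48) ≤ q * (m - 48) := Nat.mul_le_mul_right _ h2
  have h7 : q * m = q * (m - 48) + q * 48 := by rw [← mul_add, Nat.sub_add_cancel (by omega)]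
  omega

open F4 H352.KE.F4 in
/-- **`d = 3, 6`.** -/
theorem F4.three (h11 : 11 ≤ p) (hM : IsPModular p M) (d8 : D8J p M S) (d9 : D9 p M S)
    (h2 : 2 ≤ blockRank p (principalBlock M S)) {F : Type} [Field F] [Fintype F]
    {N : ℕ} (hN : N ≠ 0) {Cw : List (Fin 4 × Mat 4)} (hw : ChainOK Am Cw) {X : (Fin 4 → ZMod (p ^ N)) → S}
    (H : ModelN hpF (p ^ N) (Fintype.card F) (AddEquiv.refl (Fin 4 → ℤ))
      (CoxeterMatrix.F₄.toCoxeterSystem.wordProd (Cw.map Prod.fst)) X) {t : ZMod (p ^ N)} (ht : t ^ 2 + t + 1 = 0)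
    (hW : ∀ a, H210.EL.EigOK (hd cw) t a → Eig F (hd Cw) a) (hc : CommOK (hd cv) (hd Cw)) (hc2 : CommOK (hd cv2) (hd Cw))
    {R : ℕ} (hR : ¬ p ∣ R) (hG : Nat.card S = (p ^ N) ^ 2 * R)
    (hn : Nat.card ↥(Cth hpF (AddEquiv.refl (Fin 4 → ℤ))
      (CoxeterMatrix.F₄.toCoxeterSystem.wordProd (Cw.map Prod.fst))) ≤ 72) : p + 1 ≤ x0 p M S := by
  have hp' := hpp.out
  have HF := fra hA hw H
  have hpm : p ∣ p ^ N := dvd_pow_self _ hN
  have : NeZero (p ^ N) := ⟨pow_ne_zero _ hp'.ne_zero⟩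
  have hm1 : p ^ N ≠ 1 := fun h => hp'.one_lt.ne' (Nat.dvd_one.1 (h ▸ hpm))
  have ht' : t ^ 2 = ((-1 : ℤ) : ZMod (p ^ N)) * t + ((-1 : ℤ) : ZMod (p ^ N)) := by
    push_cast
    linear_combination ht
  have e01 : qev t (0, 1) = t := by
    unfold qev
    push_cast
    ring
  have e10 : qev t (1, 0) = 1 := qev_one
  -- the vectors
  set a : Fin 4 → ZMod (p ^ N) := qv t A3 with ha'
  set b : Fin 4 → ZMod (p ^ N) := qv t B3 with hb'
  have ha : Eig F (hd Cw) a := hW _ (by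
    have h := eigA3.eigOK ht'
    rwa [e01] at h)
  have hb : Eig F (hd Cw) b := hW _ (by
    have h := eigB3.eigOK ht'
    rwa [e01] at h)
  have haL := (mem_lam_iff (hp := hpF) hA hw).2 ha
  have hbL := (mem_lam_iff (hp := hpF) hA hw).2 hb
  have va : ∀ j, ∑ n, (hd cv j n : ZMod (p ^ N)) * a n = t * a j := fun j => by
    have h := v_A3.comp ht' j
    rwa [e01] at h
  have vb : ∀ j, ∑ n, (hd cv j n : ZMod (p ^ N)) * b n = b j := fun j => by
    have h := v_B3.comp ht' j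
    rwa [e10, one_mul] at h
  have va2 : ∀ j, ∑ n, (hd cv2 j n : ZMod (p ^ N)) * a n = a j := fun j => by
    have h := v2_A3.comp ht' j
    rwa [e10, one_mul] at h
  have vb2 : ∀ j, ∑ n, (hd cv2 j n : ZMod (p ^ N)) * b n = t * b j := fun j => by
    have h := v2_B3.comp ht' j
    rwa [e01] at h
  have u2 := isUnit_two (p := p) (m := p ^ N) rfl h11
  have u3 := isUnit_three (p := p) (m := p ^ N) rfl h11
  have hab : ∀ i j : ZMod (p ^ N), i • a + j • b = 0 → i = 0 ∧ j = 0 := by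
    intro i j h
    have h3 := congrFun h 3
    have h2 := congrFun h 2
    rw [Pi.add_apply, Pi.smul_apply, Pi.smul_apply, smul_eq_mul, smul_eq_mul, Pi.zero_apply, ha', hb'] at h2 h3
    rw [A3_3, B3_3, mul_zero, zero_add] at h3
    have hj : j = 0 := by
      rw [← u3.mul_left_inj, zero_mul]
      exact h3
    refine ⟨?_, hj⟩
    rw [hj, zero_mul, add_zero, A3_2] at h2
    rw [← u2.mul_left_inj, zero_mul]
    exact h2
  have hba : ∀ i j : ZMod (p ^ N), i • b + j • a = 0 → i = 0 ∧ j = 0 := by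
    intro i j h
    rw [add_comm] at h
    exact (hab j i h).symm
  -- the root values
  have ra := fun s => val_A3.spec h11 ht' s
  have rb := fun s => val_B3.spec h11 ht' s
  have hr : ∀ s : Fin chevF4.nroots, IsUnit (lam a (vec chevF4 4 s)) ∨ IsUnit (lam b (vec chevF4 4 s)) := by
    intro s
    rcases ra s with h1 | h1
    · rcases rb s with h2 | h2
      · exact absurd ⟨h1.2, h2.2⟩ (pair3 s)
      · exact Or.inr h2
    · exact Or.inl h1
  -- orders
  have hoa : orderOf (X a) = p ^ N := HF.order ha fun i h => (hab i 0 (by rw [h, zero_smul, add_zero])).1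
  have hob : orderOf (X b) = p ^ N := HF.order hb fun i h => (hab 0 i (by rw [h, zero_smul, add_zero])).2
  -- the Sylow subgroup
  obtain ⟨P, hP⟩ := HF.exists_sylow rfl ha hb hab hR hG
  -- the action
  have hω : t ^ 2 * t = 1 := by linear_combination (t - 1) * ht
  obtain ⟨c, hcb, hca⟩ := HF.exists_c ha hb cv_ok hc vb va hω
  obtain ⟨c', hca', hcb'⟩ := HF.exists_c hb ha cv2_ok hc2 va2 vb2 hω
  set τ := ZMod.castHom (dvd_pw hN) (ZMod p) t with hτ
  have hτ1 : τ ^ 2 + τ + 1 = 0 := by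
    rw [hτ, ← map_pow, ← map_add, ← map_one (ZMod.castHom (dvd_pw hN) (ZMod p)), ← map_add, ht, map_zero]
  have hord : orderOf (((t ^ 2).val : ℕ) : ZMod p) = 3 := by
    rw [val_cast (dvd_pw hN), map_pow]
    exact order_three h11 (by linear_combination (τ ^ 2 - τ + 1) * hτ1)
  have r1 := d9 P (X b) (X a) (HF.comm hb ha) hP (HF.not_mem hm1 ha hb hab) c hcb _ hca
  have r2 := d9 P (X a) (X b) (HF.comm ha hb) (by rw [hP, Set.pair_comm]) (HF.not_mem hm1 hb ha hba) c' hca' _ hcb'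
  rw [hord] at r1 r2
  rw [← centralizer_bar H hN hbL (fun s => (rb s).imp_left And.left)] at r1
  rw [← centralizer_bar H hN haL (fun s => (ra s).imp_left And.left)] at r2
  -- fusion
  have hτ' : τ ^ 2 = ((-1 : ℤ) : ZMod p) * τ + ((-1 : ℤ) : ZMod p) := by
    push_cast
    linear_combination hτ1
  have ev : ∀ z : ℤ, qev τ (z, 0) = (z : ZMod p) := by
    intro z
    unfold qev
    push_cast
    ring
  have pa6 : psum chevF4 (bar hN a) 6 = ((1008 : ℤ) : ZMod p) := by
    rw [ha', bar_qv, psum_qv hτ', sumA3_6, ev]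
  have pa12 : psum chevF4 (bar hN a) (2 * 6) = ((78120 : ℤ) : ZMod p) := by
    rw [ha', bar_qv, psum_qv hτ', sumA3_12, ev]
  have pb6 : psum chevF4 (bar hN b) 6 = ((3402 : ℤ) : ZMod p) := by
    rw [hb', bar_qv, psum_qv hτ', sumB3_6, ev]
  have pb12 : psum chevF4 (bar hN b) (2 * 6) = ((3214890 : ℤ) : ZMod p) := by
    rw [hb', bar_qv, psum_qv hτ', sumB3_12, ev]
  have fa := fus_pow_bar H hN haL pa6 (smooth_ne h11 (k := 10) (by norm_num))
  have fb := fus_pow_bar H hN hbL pb6 (smooth_ne h11 (k := 10) (by norm_num))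
  have fab := not_fus_bar H hN haL hbL pa6 pa12 pb6 pb12 (by
    rw [← Int.cast_pow, ← Int.cast_pow, ← Int.cast_mul, ← Int.cast_mul, ← Int.cast_sub]
    exact smooth_ne (p := p) h11 (k := 40) (by norm_num))
  have h := d8 _ _ (orderOf_pow_p hN hob) (orderOf_pow_p hN hoa) 6 6 3 3 fb fa fab r1 r2
  have h6 : 3 ∣ p - 1 := by
    rw [← hord]
    exact ZMod.orderOf_dvd_card_sub_one (by
      intro h0
      rw [h0] at hord
      have := orderOf_pos_iff.1 (by rw [hord]; norm_num : 0 < orderOf (0 : ZMod p))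
      rw [isOfFinOrder_iff_pow_eq_one] at this
      obtain ⟨n, hn, h2⟩ := this
      rw [zero_pow hn.ne'] at h2
      exact zero_ne_one h2)
  have hodd := hp'.eq_two_or_odd
  have h13 : 13 ≤ p := by
    by_contra h
    have : p = 11 ∨ p = 12 := by omega
    rcases this with rfl | rfl <;> omega
  have hk := x0_eq_kJ_rank_two hM hN H haL hbL hab hr hR hG hn (fun h1 => num_F4 h13 hN (by norm_num) h1)
  rw [hk]
  omega

open F4 H352.KE.F4 in
/-- **`d = 4`.** -/
theorem F4.four (h11 : 11 ≤ p) (hM : IsPModular p M) (d6 : D6J p M S) (d9 : D9 p M S)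
    (h2 : 2 ≤ blockRank p (principalBlock M S)) {F : Type} [Field F] [Fintype F]
    {N : ℕ} (hN : N ≠ 0) {X : (Fin 4 → ZMod (p ^ N)) → S}
    (H : ModelN hpF (p ^ N) (Fintype.card F) (AddEquiv.refl (Fin 4 → ℤ))
      (CoxeterMatrix.F₄.toCoxeterSystem.wordProd (cw4.map Prod.fst)) X)
    (ht : (Fintype.card F : ZMod (p ^ N)) ^ 2 + 1 = 0)
    {R : ℕ} (hR : ¬ p ∣ R) (hG : Nat.card S = (p ^ N) ^ 2 * R) : p + 1 ≤ x0 p M S := by
  have hp' := hpp.out
  have HF := fra hA cw4_ok H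
  have hpm : p ∣ p ^ N := dvd_pow_self _ hN
  have : NeZero (p ^ N) := ⟨pow_ne_zero _ hp'.ne_zero⟩
  have hm1 : p ^ N ≠ 1 := fun h => hp'.one_lt.ne' (Nat.dvd_one.1 (h ▸ hpm))
  set t : ZMod (p ^ N) := (Fintype.card F : ZMod (p ^ N)) with ht0
  have ht' : t ^ 2 = ((0 : ℤ) : ZMod (p ^ N)) * t + ((-1 : ℤ) : ZMod (p ^ N)) := by
    push_cast
    linear_combination ht
  have e01 : qev t (0, 1) = t := by
    unfold qev
    push_cast
    ring
  have e10 : qev t (1, 0) = 1 := qev_one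
  -- the vectors
  set a : Fin 4 → ZMod (p ^ N) := qv t A4 with ha'
  set b : Fin 4 → ZMod (p ^ N) := qv t B4 with hb'
  have ha : Eig F (hd cw4) a := by
    have h := eigA4.eigOK ht'
    rwa [e01] at h
  have hb : Eig F (hd cw4) b := by
    have h := eigB4.eigOK ht'
    rwa [e01] at h
  have haL := (mem_lam_iff (hp := hpF) hA cw4_ok).2 ha
  have hbL := (mem_lam_iff (hp := hpF) hA cw4_ok).2 hb
  have va : ∀ j, ∑ n, (hd cv4 j n : ZMod (p ^ N)) * a n = t * a j := fun j => by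
    have h := v_A4.comp ht' j
    rwa [e01] at h
  have vb : ∀ j, ∑ n, (hd cv4 j n : ZMod (p ^ N)) * b n = b j := fun j => by
    have h := v_B4.comp ht' j
    rwa [e10, one_mul] at h
  have u2 := isUnit_two (p := p) (m := p ^ N) rfl h11
  have hab : ∀ i j : ZMod (p ^ N), i • a + j • b = 0 → i = 0 ∧ j = 0 := by
    intro i j h
    have h3 := congrFun h 3
    have h2 := congrFun h 1
    rw [Pi.add_apply, Pi.smul_apply, Pi.smul_apply, smul_eq_mul, smul_eq_mul, Pi.zero_apply, ha', hb'] at h2 h3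
    rw [A4_1, B4_1, mul_zero, add_zero] at h2
    rw [A4_3, B4_3] at h3
    have hi : i = 0 := by
      rw [← u2.mul_left_inj, zero_mul]
      linear_combination t * h2 + 2 * i * ht
    refine ⟨hi, ?_⟩
    rw [hi, zero_mul, zero_add] at h3
    rw [← u2.mul_left_inj, zero_mul]
    exact h3
  -- the root values
  have ra := fun s => val_A4.spec h11 ht' s
  have rb := fun s => val_B4.spec h11 ht' s
  have hr : ∀ s : Fin chevF4.nroots, IsUnit (lam a (vec chevF4 4 s)) ∨ IsUnit (lam b (vec chevF4 4 s)) := by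
    intro s
    rcases ra s with h1 | h1
    · rcases rb s with h2 | h2
      · exact absurd ⟨h1.2, h2.2⟩ (pair4 s)
      · exact Or.inr h2
    · exact Or.inl h1
  have hob : orderOf (X b) = p ^ N := HF.order hb fun i h => (hab 0 i (by rw [h, zero_smul, add_zero])).2
  -- the Sylow subgroup
  obtain ⟨P, hP⟩ := HF.exists_sylow rfl ha hb hab hR hG
  -- the action
  have hω : -t * t = 1 := by linear_combination -ht
  obtain ⟨c, hcb, hca⟩ := HF.exists_c ha hb cv4_ok comm4 vb va hω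
  set τ := ZMod.castHom (dvd_pw hN) (ZMod p) t with hτ
  have hτ1 : τ ^ 2 + 1 = 0 := by
    rw [hτ, ← map_pow, ← map_one (ZMod.castHom (dvd_pw hN) (ZMod p)), ← map_add, ht, map_zero]
  have hord : orderOf (((-t).val : ℕ) : ZMod p) = 4 := by
    rw [val_cast (dvd_pw hN), map_neg]
    exact order_four h11 (by linear_combination hτ1)
  have r1 := d9 P (X b) (X a) (HF.comm hb ha) hP (HF.not_mem hm1 ha hb hab) c hcb _ hca
  rw [hord] at r1
  rw [← centralizer_bar H hN hbL (fun s => (rb s).imp_left And.left)] at r1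
  -- fusion
  have hτ' : τ ^ 2 = ((0 : ℤ) : ZMod p) * τ + ((-1 : ℤ) : ZMod p) := by
    push_cast
    linear_combination hτ1
  have ev : ∀ z : ℤ, qev τ (z, 0) = (z : ZMod p) := by
    intro z
    unfold qev
    push_cast
    ring
  have pb8 : psum chevF4 (bar hN b) 8 = ((21760 : ℤ) : ZMod p) := by
    rw [hb', bar_qv, psum_qv hτ', sumB4_8, ev]
  have pb12 : psum chevF4 (bar hN b) 12 = ((-967680 : ℤ) : ZMod p) := by
    rw [hb', bar_qv, psum_qv hτ', sumB4_12, ev]
  have f12 := fus_pow_bar H hN hbL pb12 (smooth_ne h11 (k := 10) (by norm_num))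
  have f4 : ∀ (g : S) (i : ℕ), g * X b ^ p ^ (N - 1) * g⁻¹ = (X b ^ p ^ (N - 1)) ^ i → (i : ZMod p) ^ 4 = 1 := by
    intro g i h
    have h1 := f12 g i h
    by_cases h17 : p = 17
    · have hi : (i : ZMod p) ≠ 0 := by
        intro h0
        rw [h0, zero_pow (by norm_num)] at h1
        exact zero_ne_one h1
      have h2 := ZMod.pow_card_sub_one_eq_one hi
      have h3 : p - 1 = 16 := by omega
      rw [h3] at h2
      calc (i : ZMod p) ^ 4 = (i : ZMod p) ^ 4 * (i : ZMod p) ^ 12 := by rw [h1, mul_one]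
        _ = (i : ZMod p) ^ 16 := by rw [← pow_add]
        _ = 1 := h2
    · have h2 := fus_pow_bar H hN hbL pb8 (by
        intro h0
        have h5 : (17 : ZMod p) ≠ 0 := by
          intro h6
          have h7 : ((17 : ℕ) : ZMod p) = 0 := by exact_mod_cast h6
          exact h17 ((Nat.prime_dvd_prime_iff_eq hp' (by norm_num)).1 ((ZMod.natCast_eq_zero_iff _ _).1 h7))
        have h8 : ((1280 : ℤ) : ZMod p) ≠ 0 := smooth_ne h11 (k := 10) (by norm_num)
        apply mul_ne_zero h8 h5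
        rw [← h0]
        push_cast
        norm_num) g i h
      calc (i : ZMod p) ^ 4 = (i : ZMod p) ^ 4 * (i : ZMod p) ^ 8 := by rw [h2, mul_one]
        _ = (i : ZMod p) ^ 12 := by rw [← pow_add]
        _ = 1 := h1
  have h := d6 _ (orderOf_pow_p hN hob) 4 4 f4 r1
  have h4 : 4 ∣ p - 1 := by
    rw [← hord]
    exact ZMod.orderOf_dvd_card_sub_one (by
      intro h0
      rw [h0] at hord
      have := orderOf_pos_iff.1 (by rw [hord]; norm_num : 0 < orderOf (0 : ZMod p))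
      rw [isOfFinOrder_iff_pow_eq_one] at this
      obtain ⟨n, hn, h2⟩ := this
      rw [zero_pow hn.ne'] at h2
      exact zero_ne_one h2)
  have h13 : 13 ≤ p := by omega
  have hk := x0_eq_kJ_rank_two hM hN H haL hbL hab hr hR hG cth_cw4 (fun h1 => num_F4 h13 hN (by norm_num) h1)
  rw [hk]
  omega

end F4

end Cfsg.Agent.H322.XR
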