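import Cfsg.Agent.H322.XR.Quad
import Cfsg.Agent.H352.KE.F4Data
import Cfsg.Agent.S1092

/-!
# `F₄`: certificates for the rank two tori (S4791, S4927; helper322)
-/

set_option autoImplicit false
set_option linter.unusedSectionVars false
set_option maxRecDepth 100000
set_option maxHeartbeats 8000000

namespace Cfsg.Agent.H322.XR.F4

open Cfsg Cfsg.Lie Cfsg.Lie.ChevalleyDatum Subgroup
open Cfsg.Agent.ChevalleyStructure Cfsg.Agent.ChevalleyStructure.Elts Cfsg.Agent.ChevalleyStructure.CoxeterGeomTypes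
open Cfsg.Agent.Nodes.RGDChev Cfsg.Agent.H129.WData Cfsg.Agent.H210.EL Cfsg.Agent.H129.TorusChar
open Cfsg.Agent.H352.KE Cfsg.Agent.H352.KE.F4 Cfsg.Agent.H208.XR

/-- the conjugates of `w` -/
def walk_cw : List (Fin 4 × Mat 4) :=
    [(0, ![![1, 3, 2, 1], ![-1, -2, -1, 0], ![0, 0, -1, -1], ![0, 0, 1, 0]]),
     (1, ![![-2, -3, -2, -1], ![1, 1, 1, 1], ![0, 0, -1, -1], ![0, 0, 1, 0]]),
     (2, ![![-1, -1, -1, 0], ![-1, -2, -1, -1], ![2, 2, 1, 1], ![0, 2, 1, 0]]),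
     (0, ![![-1, -1, 0, 0], ![1, 0, 0, 0], ![-2, -2, -2, -1], ![2, 4, 3, 1]]),
     (2, ![![0, 1, 0, 0], ![-1, -1, 0, 0], ![0, -2, -2, -1], ![2, 4, 3, 1]]),
     (1, ![![0, 1, 1, 0], ![-1, -3, -2, -1], ![0, 2, 1, 1], ![2, 2, 1, 0]]),
     (0, ![![-1, -1, -1, -1], ![1, 2, 2, 1], ![-2, -4, -3, -1], ![2, 2, 1, 0]]),
     (2, ![![0, 1, 1, 1], ![1, 1, 1, 0], ![-2, -4, -3, -1], ![0, 2, 1, 0]]),
     (0, ![![0, 1, 1, 1], ![-1, -3, -2, -1], ![2, 4, 2, 1], ![-2, -2, -1, -1]]),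
     (1, ![![-1, -1, -1, -1], ![-1, -2, -1, 0], ![2, 4, 2, 1], ![0, -2, -1, -1]]),
     (0, ![![-2, -3, -2, -1], ![1, 1, 1, 0], ![0, 0, 0, 1], ![0, 0, -1, -1]]),
     (1, ![![1, 3, 2, 1], ![-1, -2, -1, -1], ![0, 0, 0, 1], ![0, 0, -1, -1]]),
     (0, ![![0, 1, 1, 0], ![1, 1, 1, 1], ![-2, -2, -2, -1], ![0, -2, -1, -1]]),
     (2, ![![-1, -1, -1, 0], ![1, 2, 2, 1], ![0, -2, -2, -1], ![-2, -2, -1, -1]]),
     (0, ![![-1, -1, 0, 0], ![1, 0, 0, 0], ![0, 2, 1, 1], ![-2, -4, -3, -2]])]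

/-- the conjugates of `-w` -/
def walk_cm : List (Fin 4 × Mat 4) :=
    [(0, ![![-1, -3, -2, -1], ![1, 2, 1, 0], ![0, 0, 1, 1], ![0, 0, -1, 0]]),
     (1, ![![2, 3, 2, 1], ![-1, -1, -1, -1], ![0, 0, 1, 1], ![0, 0, -1, 0]]),
     (2, ![![1, 1, 1, 0], ![1, 2, 1, 1], ![-2, -2, -1, -1], ![0, -2, -1, 0]]),
     (0, ![![1, 1, 0, 0], ![-1, 0, 0, 0], ![2, 2, 2, 1], ![-2, -4, -3, -1]]),
     (2, ![![0, -1, 0, 0], ![1, 1, 0, 0], ![0, 2, 2, 1], ![-2, -4, -3, -1]]),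
     (1, ![![0, -1, -1, 0], ![1, 3, 2, 1], ![0, -2, -1, -1], ![-2, -2, -1, 0]]),
     (0, ![![1, 1, 1, 1], ![-1, -2, -2, -1], ![2, 4, 3, 1], ![-2, -2, -1, 0]]),
     (2, ![![0, -1, -1, -1], ![-1, -1, -1, 0], ![2, 4, 3, 1], ![0, -2, -1, 0]]),
     (0, ![![0, -1, -1, -1], ![1, 3, 2, 1], ![-2, -4, -2, -1], ![2, 2, 1, 1]]),
     (1, ![![1, 1, 1, 1], ![1, 2, 1, 0], ![-2, -4, -2, -1], ![0, 2, 1, 1]]),
     (0, ![![2, 3, 2, 1], ![-1, -1, -1, 0], ![0, 0, 0, -1], ![0, 0, 1, 1]]),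
     (1, ![![-1, -3, -2, -1], ![1, 2, 1, 1], ![0, 0, 0, -1], ![0, 0, 1, 1]]),
     (0, ![![0, -1, -1, 0], ![-1, -1, -1, -1], ![2, 2, 2, 1], ![0, 2, 1, 1]]),
     (2, ![![1, 1, 1, 0], ![-1, -2, -2, -1], ![0, 2, 2, 1], ![2, 2, 1, 1]]),
     (0, ![![1, 1, 0, 0], ![-1, 0, 0, 0], ![0, -2, -1, -1], ![2, 4, 3, 2]])]

/-- the conjugates of the element with square `-1` -/
def walk_cw4 : List (Fin 4 × Mat 4) :=
    [(0, ![![-1, -2, -1, 0], ![0, -1, -1, -1], ![2, 4, 3, 2], ![-2, -2, -2, -1]]),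
     (1, ![![1, 2, 1, 0], ![-2, -3, -2, -1], ![2, 4, 3, 2], ![0, -2, -2, -1]]),
     (0, ![![-1, -2, -1, -1], ![2, 3, 2, 1], ![-2, -2, -1, 0], ![0, -2, -2, -1]]),
     (1, ![![1, 2, 1, 1], ![0, 1, 1, 0], ![0, -2, -1, 0], ![-2, -2, -2, -1]]),
     (0, ![![1, 2, 2, 1], ![0, -1, -1, 0], ![0, 2, 1, 0], ![-2, -4, -2, -1]]),
     (3, ![![-1, -2, -2, -1], ![0, 1, 1, 1], ![2, 2, 1, 0], ![-2, -4, -2, -1]]),
     (0, ![![-1, -2, -2, -1], ![0, 1, 1, 0], ![0, -2, -1, 0], ![2, 4, 2, 1]]),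
     (1, ![![1, 2, 2, 1], ![0, -1, -1, -1], ![-2, -2, -1, 0], ![2, 4, 2, 1]]),
     (0, ![![1, 2, 1, 0], ![0, 1, 1, 1], ![-2, -4, -3, -2], ![2, 2, 2, 1]]),
     (1, ![![-1, -2, -1, 0], ![2, 3, 2, 1], ![-2, -4, -3, -2], ![0, 2, 2, 1]]),
     (0, ![![1, 2, 1, 1], ![-2, -3, -2, -1], ![2, 2, 1, 0], ![0, 2, 2, 1]])]

theorem walkOK_cw : WalkOK Am (hd cw) walk_cw := by decide +kernel
theorem nodup_cw : (hd cw :: walk_cw.map Prod.snd).Nodup := by decide +kernel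
theorem walkOK_cm : WalkOK Am (hd cm) walk_cm := by decide +kernel
theorem nodup_cm : (hd cm :: walk_cm.map Prod.snd).Nodup := by decide +kernel
theorem walkOK_cw4 : WalkOK Am (hd cw4) walk_cw4 := by decide +kernel
theorem nodup_cw4 : (hd cw4 :: walk_cw4.map Prod.snd).Nodup := by decide +kernel

theorem val_A3 : ValOK chevF4 4 (-1) (-1) A3 := by decide +kernel
theorem val_B3 : ValOK chevF4 4 (-1) (-1) B3 := by decide +kernel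
theorem val_A4 : ValOK chevF4 4 0 (-1) A4 := by decide +kernel
theorem val_B4 : ValOK chevF4 4 0 (-1) B4 := by decide +kernel
theorem pair3 : PairOK chevF4 4 A3 B3 := by decide +kernel
theorem pair4 : PairOK chevF4 4 A4 B4 := by decide +kernel
theorem nroots_F4 : chevF4.nroots = 48 := by decide +kernel

theorem hpF : IsType chevF4 4 CoxeterMatrix.F₄ := by simp [IsType, typeList]

theorem card_W : Nat.card CoxeterMatrix.F₄.Group = 1152 := S1092.result (⟨4, CoxeterMatrix.F₄⟩, 1152) (by simp)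

theorem cth_cw : Nat.card ↥(Cth hpF (AddEquiv.refl (Fin 4 → ℤ)) (CoxeterMatrix.F₄.toCoxeterSystem.wordProd (cw.map Prod.fst))) ≤ 72 := by
  have h := card_Cth_le hpF hA (chain_rep hpF CoxeterMatrix.F₄.toCoxeterSystem hA cw_ok) walkOK_cw nodup_cw
  rw [card_W] at h
  have h1 : walk_cw.length = 15 := rfl
  rw [h1] at h
  omega

theorem cth_cm : Nat.card ↥(Cth hpF (AddEquiv.refl (Fin 4 → ℤ)) (CoxeterMatrix.F₄.toCoxeterSystem.wordProd (cm.map Prod.fst))) ≤ 72 := by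
  have h := card_Cth_le hpF hA (chain_rep hpF CoxeterMatrix.F₄.toCoxeterSystem hA cm_ok) walkOK_cm nodup_cm
  rw [card_W] at h
  have h1 : walk_cm.length = 15 := rfl
  rw [h1] at h
  omega

theorem cth_cw4 : Nat.card ↥(Cth hpF (AddEquiv.refl (Fin 4 → ℤ)) (CoxeterMatrix.F₄.toCoxeterSystem.wordProd (cw4.map Prod.fst))) ≤ 96 := by
  have h := card_Cth_le hpF hA (chain_rep hpF CoxeterMatrix.F₄.toCoxeterSystem hA cw4_ok) walkOK_cw4 nodup_cw4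
  rw [card_W] at h
  have h1 : walk_cw4.length = 11 := rfl
  rw [h1] at h
  omega

end Cfsg.Agent.H322.XR.F4
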