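import Cfsg.Agent.H322.XR.Bar

/-!
# Two eigenvectors over `ℤ[t] / (t² - P t - Q)` (S4791, S4927; helper322)

* `isUnit_qev` : values with a norm prime to `p` are units;
* `card_Lam_ge`, `card_LamReg_ge` : the eigenspace and its regular elements.
-/

set_option autoImplicit false
set_option linter.unusedSectionVars false

namespace Cfsg.Agent.H322.XR

open CoxeterSystem Cfsg Cfsg.Lie Cfsg.Lie.ChevalleyDatum
open Cfsg.Agent.ChevalleyStructure Cfsg.Agent.ChevalleyStructure.Elts Cfsg.Agent.ChevalleyStructure.CoxeterGeom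
  Cfsg.Agent.ChevalleyStructure.CoxeterGeomTypes Cfsg.Agent.ChevalleyStructure.NPerm
  Cfsg.Agent.ChevalleyStructure.RootVec
open Cfsg.Agent.Tits.Roots Cfsg.Agent.Tits.Core Cfsg.Agent.Nodes Cfsg.Agent.Nodes.Reps Cfsg.Agent.Nodes.BNOf
  Cfsg.Agent.Nodes.RGDChev Cfsg.Agent.Nodes.Bruhat Cfsg.Agent.Nodes.SubComb Cfsg.Agent.Nodes.Coroot
open Cfsg.Agent.H129.TorusChar Cfsg.Agent.H129.TorusCent Cfsg.Agent.H129.TorusTw Cfsg.Agent.H129.TorusMain
  Cfsg.Agent.H129.WData Cfsg.Agent.H210.EL Cfsg.Agent.H208.XR Cfsg.Agent.H440.TD4 Cfsg.Agent.H352.KE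

universe u v

/-- the norm of `x.1 + x.2 t` -/
def qnorm (P Q : ℤ) (x : ℤ × ℤ) : ℤ := x.1 ^ 2 + P * x.1 * x.2 - Q * x.2 ^ 2

theorem isUnit_intCast {p : ℕ} [hpp : Fact p.Prime] {N : ℕ} {z : ℤ} (h : ¬ (p : ℤ) ∣ z) :
    IsUnit (z : ZMod (p ^ N)) := by
  have h1 : IsCoprime z ((p ^ N : ℕ) : ℤ) := by
    rw [Nat.cast_pow]
    exact IsCoprime.pow_right ((Nat.prime_iff_prime_int.1 hpp.out).coprime_iff_not_dvd.2 h).symm
  obtain ⟨a, b, hab⟩ := h1
  have h2 : ((a * z + b * ((p ^ N : ℕ) : ℤ) : ℤ) : ZMod (p ^ N)) = ((1 : ℤ) : ZMod (p ^ N)) := by rw [hab]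
  push_cast at h2
  have h3 : ((p : ZMod (p ^ N))) ^ N = 0 := by
    have h4 : (((p ^ N : ℕ)) : ZMod (p ^ N)) = 0 := ZMod.natCast_self _
    rwa [Nat.cast_pow] at h4
  rw [h3, mul_zero, add_zero] at h2
  exact IsUnit.of_mul_eq_one _ (by rw [mul_comm]; exact h2)

theorem isUnit_qev {p : ℕ} [hpp : Fact p.Prime] {N : ℕ} {t : ZMod (p ^ N)} {P Q : ℤ} (ht : t ^ 2 = P * t + Q) {x : ℤ × ℤ}
    (h : ¬ (p : ℤ) ∣ qnorm P Q x) : IsUnit (qev t x) := by
  have h1 : qev t x * qev t (x.1 + P * x.2, -x.2) = ((qnorm P Q x : ℤ) : ZMod (p ^ N)) := by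
    unfold qev qnorm
    push_cast
    linear_combination (-(x.2 : ZMod (p ^ N)) ^ 2) * ht
  exact isUnit_of_mul_isUnit_left (h1 ▸ isUnit_intCast h)

/-- the certificate for the root values of one vector: zero or of norm dividing `72` -/
def ValOK (D : ChevalleyDatum) (l : ℕ) (P Q : ℤ) (A : Fin l → ℤ × ℤ) : Prop :=
  ∀ s : Fin D.nroots, qlam A (vec D l s) = (0, 0) ∨ 72 % qnorm P Q (qlam A (vec D l s)) = 0 ∧
    qnorm P Q (qlam A (vec D l s)) ≠ 0

instance (D : ChevalleyDatum) (l : ℕ) (P Q : ℤ) (A : Fin l → ℤ × ℤ) : Decidable (ValOK D l P Q A) := by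
  unfold ValOK; infer_instance

/-- no root vanishes on both vectors -/
def PairOK (D : ChevalleyDatum) (l : ℕ) (A B : Fin l → ℤ × ℤ) : Prop :=
  ∀ s : Fin D.nroots, ¬ (qlam A (vec D l s) = (0, 0) ∧ qlam B (vec D l s) = (0, 0))

instance (D : ChevalleyDatum) (l : ℕ) (A B : Fin l → ℤ × ℤ) : Decidable (PairOK D l A B) := by
  unfold PairOK; infer_instance

theorem not_dvd_of_mod {p : ℕ} [hpp : Fact p.Prime] (h11 : 11 ≤ p) {z : ℤ} (h : (72 : ℤ) % z = 0) : ¬ (p : ℤ) ∣ z := by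
  intro h1
  have h2 : z ∣ 210 ^ 3 := (Int.dvd_of_emod_eq_zero h).trans (by norm_num)
  exact smooth_ne h11 h2 ((ZMod.intCast_zmod_eq_zero_iff_dvd z p).2 h1)

theorem ValOK.spec {D : ChevalleyDatum} {l : ℕ} {P Q : ℤ} {A : Fin l → ℤ × ℤ} (h : ValOK D l P Q A) {p : ℕ}
    [hpp : Fact p.Prime] (h11 : 11 ≤ p) {N : ℕ} {t : ZMod (p ^ N)} (ht : t ^ 2 = P * t + Q) (s : Fin D.nroots) :
    lam (qv t A) (vec D l s) = 0 ∧ qlam A (vec D l s) = (0, 0) ∨ IsUnit (lam (qv t A) (vec D l s)) := by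
  have e : lam (qv t A) (vec D l s) = qev t (qlam A (vec D l s)) := qev_lam A _
  rcases h s with h1 | ⟨h1, -⟩
  · left
    refine ⟨?_, h1⟩
    rw [e, h1]
    unfold qev
    push_cast
    ring
  · right
    rw [e]
    exact isUnit_qev ht (not_dvd_of_mod h11 h1)

section card

variable {D : ChevalleyDatum} {l : ℕ} {M : CoxeterMatrix (Fin l)} {hp : IsType D l M}
  {p : ℕ} [hpp : Fact p.Prime] {N Q : ℕ} {w : M.Group} {g : (Fin l → ℤ) ≃+ (Fin l → ℤ)}

theorem comb_mem {a b : Fin l → ZMod (p ^ N)} (ha : a ∈ Lam hp (p ^ N) Q g w) (hb : b ∈ Lam hp (p ^ N) Q g w)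
    (i j : ZMod (p ^ N)) : i • a + j • b ∈ Lam hp (p ^ N) Q g w :=
  Lam.add hp (Lam.smul hp _ ha) (Lam.smul hp _ hb)

theorem comb_inj {a b : Fin l → ZMod (p ^ N)} (hab : ∀ i j : ZMod (p ^ N), i • a + j • b = 0 → i = 0 ∧ j = 0)
    {i j i' j' : ZMod (p ^ N)} (h : i • a + j • b = i' • a + j' • b) : i = i' ∧ j = j' := by
  have h1 := hab (i - i') (j - j') (by
    rw [sub_smul, sub_smul, sub_add_sub_comm, h, sub_self])
  exact ⟨sub_eq_zero.1 h1.1, sub_eq_zero.1 h1.2⟩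

/-- the eigenspace -/
theorem card_Lam_ge {a b : Fin l → ZMod (p ^ N)} (ha : a ∈ Lam hp (p ^ N) Q g w) (hb : b ∈ Lam hp (p ^ N) Q g w)
    (hab : ∀ i j : ZMod (p ^ N), i • a + j • b = 0 → i = 0 ∧ j = 0) :
    p ^ (2 * N) ≤ Nat.card ↥(Lam hp (p ^ N) Q g w) := by
  have : NeZero (p ^ N) := ⟨pow_ne_zero _ hpp.out.ne_zero⟩
  have h1 : Nat.card (ZMod (p ^ N) × ZMod (p ^ N)) = p ^ (2 * N) := by
    rw [Nat.card_prod, Nat.card_zmod, ← pow_add, two_mul]
  rw [← h1]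
  refine Nat.card_le_card_of_injective (fun x => (⟨x.1 • a + x.2 • b, comb_mem ha hb _ _⟩ : ↥(Lam hp (p ^ N) Q g w))) ?_
  rintro ⟨i, j⟩ ⟨i', j'⟩ h
  obtain ⟨h2, h3⟩ := comb_inj hab (congrArg Subtype.val h)
  exact Prod.ext h2 h3

/-- the regular elements of the eigenspace -/
theorem card_LamReg_ge {a b : Fin l → ZMod (p ^ N)} (ha : a ∈ Lam hp (p ^ N) Q g w) (hb : b ∈ Lam hp (p ^ N) Q g w)
    (hab : ∀ i j : ZMod (p ^ N), i • a + j • b = 0 → i = 0 ∧ j = 0)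
    (hr : ∀ s : Fin D.nroots, IsUnit (lam a (vec D l s)) ∨ IsUnit (lam b (vec D l s))) :
    p ^ (2 * N) ≤ Nat.card ↥(LamReg hp (p ^ N) Q g w) + D.nroots * p ^ N := by
  classical
  have : NeZero (p ^ N) := ⟨pow_ne_zero _ hpp.out.ne_zero⟩
  -- the pairs on which the root `s` vanishes
  let B : Fin D.nroots → Finset (ZMod (p ^ N) × ZMod (p ^ N)) := fun s =>
    Finset.univ.filter fun x => lam (x.1 • a + x.2 • b) (vec D l s) = 0
  have hB : ∀ s, (B s).card ≤ p ^ N := by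
    intro s
    have e : ∀ x ∈ B s, x.1 * lam a (vec D l s) + x.2 * lam b (vec D l s) = 0 := by
      intro x hx
      have h1 := (Finset.mem_filter.1 hx).2
      rwa [H440.TD4.lam_add', lam_smul', lam_smul'] at h1
    rcases hr s with h | h
    · have h1 : (B s).card ≤ (Finset.univ : Finset (ZMod (p ^ N))).card :=
        Finset.card_le_card_of_injOn Prod.snd (fun _ _ => Finset.mem_coe.2 (Finset.mem_univ _)) (by
          intro x hx y hy hxy
          have h2 := e x hx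
          have h3 := e y hy
          rw [hxy] at h2
          refine Prod.ext (h.mul_left_injective ?_) hxy
          show x.1 * _ = y.1 * _
          linear_combination h2 - h3)
      rwa [Finset.card_univ, ZMod.card] at h1
    · have h1 : (B s).card ≤ (Finset.univ : Finset (ZMod (p ^ N))).card :=
        Finset.card_le_card_of_injOn Prod.fst (fun _ _ => Finset.mem_coe.2 (Finset.mem_univ _)) (by
          intro x hx y hy hxy
          have h2 := e x hx
          have h3 := e y hy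
          rw [hxy] at h2
          refine Prod.ext hxy (h.mul_left_injective ?_)
          show x.2 * _ = y.2 * _
          linear_combination h2 - h3)
      rwa [Finset.card_univ, ZMod.card] at h1
  have hU : (Finset.univ.biUnion B).card ≤ D.nroots * p ^ N := by
    refine Finset.card_biUnion_le.trans ((Finset.sum_le_sum fun s _ => hB s).trans ?_)
    rw [Finset.sum_const, Finset.card_univ, Fintype.card_fin, smul_eq_mul]
  have hc : ((Finset.univ.biUnion B)ᶜ).card ≤ Nat.card ↥(LamReg hp (p ^ N) Q g w) := by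
    rw [← Fintype.card_coe, ← Nat.card_eq_fintype_card]
    refine Nat.card_le_card_of_injective (fun x => (⟨x.1.1 • a + x.1.2 • b, comb_mem ha hb _ _, fun s hs => ?_⟩ :
      ↥(LamReg hp (p ^ N) Q g w))) ?_
    · refine (Finset.mem_compl.1 x.2) (Finset.mem_biUnion.2 ⟨s, Finset.mem_univ _, ?_⟩)
      exact Finset.mem_filter.2 ⟨Finset.mem_univ _, hs⟩
    · rintro ⟨⟨i, j⟩, _⟩ ⟨⟨i', j'⟩, _⟩ h
      obtain ⟨h2, h3⟩ := comb_inj hab (congrArg Subtype.val h)
      exact Subtype.ext (Prod.ext h2 h3)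
  have h1 := Finset.card_add_card_compl (Finset.univ.biUnion B)
  have h2 : Fintype.card (ZMod (p ^ N) × ZMod (p ^ N)) = p ^ (2 * N) := by
    rw [Fintype.card_prod, ZMod.card, ← pow_add, two_mul]
  rw [h2] at h1
  omega

end card

end Cfsg.Agent.H322.XR
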