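import Cfsg.Agent.H322.XR.F4
import Cfsg.Agent.H364.XR.Crit
import Cfsg.Agent.H694.XZ.X0
import Cfsg.Agent.H76.KJ.Basic
import Cfsg.Agent.H832.KB.RankTwo
import Cfsg.Agent.H804.KB.AbChev

/-!
# S4791 + S4927: the row `F₄` (helper322)
-/

set_option autoImplicit false
set_option linter.unusedSectionVars false

namespace Cfsg.Agent.H322.XR

open Cfsg Cfsg.Lie Cfsg.Lie.ChevalleyDatum Subgroup
open Cfsg.Agent.ChevalleyStructure Cfsg.Agent.ChevalleyStructure.Elts Cfsg.Agent.ChevalleyStructure.CoxeterGeomTypes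
open Cfsg.Agent.Nodes.RGDChev Cfsg.Agent.H129.WData Cfsg.Agent.H210.EL Cfsg.Agent.H129.TorusChar
open Cfsg.Agent.H352.KE Cfsg.Agent.H208.XR Cfsg.Agent.H440.TD4 Cfsg.Agent.H508.XR Cfsg.Agent.H674.XZ

universe u

variable {p : ℕ} [hpp : Fact p.Prime] {M : Ideal AlgInt} {S : Type u} [Group S] [Finite S] [IsSimpleGroup S]

open F4 H352.KE.F4 in
/-- **`F₄`: `p + 1 ≤ |X₀(S)|`.** -/
theorem x0_F4 {r : ℕ} [Fact r.Prime] (hrp : r ≠ p) (h11 : 11 ≤ p) (hM : IsPModular p M)
    {F : Type} [Field F] [Fintype F] [CharP F r] (e : S ≃* ↥(chevF4.group F)) (hP : H508.XR.NC p S) :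
    p + 1 ≤ x0 p M S := by
  have hp' := hpp.out
  have hr' : r.Prime := Fact.out
  have h2 := two_le_rank' hM hP
  have hp2 : p ≠ 2 := by omega
  have d6 : D6J p M S := fun x hx e b hf hb => H76.KJ.kJ_of_elt hp2 hM x hx e b hf hb
  have d8 : D8J p M S := fun x x' hx hx' e e' b b' h1 h2 h3 h4 h5 => H76.KJ.kJ_of_two hp2 hM x x' hx hx' e e' b b' h1 h2 h3 h4 h5
  have d9 : D9 p M S := fun P x y h1 h2 h3 c h4 j h5 => H832.KB.rank_of_rank_two hM P x y h1 h2 h3 c h4 j h5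
  set q := Fintype.card F with hq
  have hq1 : 1 ≤ q := Fintype.card_pos
  have hpq : ¬ p ∣ q := by
    obtain ⟨n, -, hn⟩ := FiniteField.card F r
    rw [hq, hn]
    intro h
    exact hrp ((Nat.prime_dvd_prime_iff_eq hp' hr').1 (hp'.dvd_of_dvd_pow h)).symm
  have hpF0 : ((p : ℕ) : F) ≠ 0 := by
    rw [Ne, CharP.cast_eq_zero_iff F r p]
    intro h
    exact hrp ((Nat.prime_dvd_prime_iff_eq hr' hp').1 h)
  have hW : ¬ p ∣ Nat.card CoxeterMatrix.F₄.Group := by
    rw [card_W]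
    intro h
    have h1 : p ∣ 2 ^ 7 * 3 ^ 2 := by norm_num; exact h
    rcases (Nat.Prime.dvd_mul hp').1 h1 with h1 | h1
    · have := Nat.le_of_dvd (by norm_num) (hp'.dvd_of_dvd_pow h1)
      omega
    · have := Nat.le_of_dvd (by norm_num) (hp'.dvd_of_dvd_pow h1)
      omega
  obtain ⟨a, b, c, d, e', h, H⟩ := exists_fac hq1
  have hcard : Nat.card S = q ^ 24 * a ^ 4 * b ^ 2 * c ^ 2 * d ^ 2 * e' * h := by
    rw [Nat.card_congr e.toEquiv, S1062.result (F := F) (q := q) rfl, H.hcard]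
  have hpos : ∀ {n : ℕ} {z : ℤ}, (n : ℤ) = z → z ≠ 0 → n ≠ 0 := by
    rintro n z h1 h2 rfl
    exact h2 (by rw [← h1]; rfl)
  by_cases hdv : p ∣ Nat.card S
  swap
  · exfalso
    obtain ⟨P⟩ : Nonempty (Sylow p S) := inferInstance
    apply hP P
    have h1 : Nat.card (P : Subgroup S) = 1 := by
      rw [P.card_eq_multiplicity, Nat.factorization_eq_zero_of_not_dvd hdv, pow_zero]
    rw [Subgroup.card_eq_one] at h1
    rw [h1]
    infer_instance
  rw [hcard] at hdv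
  have hqz : (1 : ℤ) ≤ q := by exact_mod_cast hq1
  rcases Fac.cases H hpq hdv with h1 | h1 | h1 | h1 | h1 | h1
  · -- `d = 1, 2`
    have h2 : a = q ^ 2 - 1 := by
      have h3 : 1 ≤ q ^ 2 := Nat.one_le_pow _ _ hq1
      zify [h3]
      exact H.ha
    rw [h2] at h1
    exact H694.XM.x0_F4_12 hM h11 hrp e h1
  · -- `d = 3`
    have hb0 : b ≠ 0 := hpos H.hb (by positivity)
    obtain ⟨N, b', hb', hb⟩ := Nat.exists_eq_pow_mul_and_not_dvd hb0 p hp'.ne_one
    obtain ⟨R, hR, hR'⟩ := H.case_b h11 hpq h1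
    have hN : N ≠ 0 := by
      rintro rfl
      rw [pow_zero, one_mul] at hb
      exact hb' (hb ▸ h1)
    obtain ⟨X, HX⟩ := exists_modelN_untw (a := N) hpF hpF0 hW invC_F4
      (CoxeterMatrix.F₄.toCoxeterSystem.wordProd (cw.map Prod.fst))
    refine F4.three h11 hM d8 d9 h2 hN cw_ok (congr_model HX e) (t := (q : ZMod (p ^ N))) ?_ (fun a h => h) comm_w comm2_w
      (R := b' ^ 2 * R) ?_ ?_ cth_cw
    · have h2 := cast_of H.hb (m := p ^ N)
      have h3 : (b : ZMod (p ^ N)) = 0 := (ZMod.natCast_eq_zero_iff _ _).2 ⟨b', hb⟩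
      rw [h3] at h2
      push_cast at h2
      exact h2.symm
    · intro h2
      rcases (Nat.Prime.dvd_mul hp').1 h2 with h2 | h2
      · exact hb' (hp'.dvd_of_dvd_pow h2)
      · exact hR h2
    · rw [hcard, hR', hb]
      ring
  · -- `d = 6`
    have hc0 : c ≠ 0 := hpos H.hc (by nlinarith)
    obtain ⟨N, b', hb', hb⟩ := Nat.exists_eq_pow_mul_and_not_dvd hc0 p hp'.ne_one
    obtain ⟨R, hR, hR'⟩ := H.case_c h11 hpq h1
    have hN : N ≠ 0 := by
      rintro rfl
      rw [pow_zero, one_mul] at hb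
      exact hb' (hb ▸ h1)
    obtain ⟨X, HX⟩ := exists_modelN_untw (a := N) hpF hpF0 hW invC_F4
      (CoxeterMatrix.F₄.toCoxeterSystem.wordProd (cm.map Prod.fst))
    refine F4.three h11 hM d8 d9 h2 hN cm_ok (congr_model HX e) (t := -(q : ZMod (p ^ N))) ?_ (fun a h j => ?_) comm_m comm2_m
      (R := b' ^ 2 * R) ?_ ?_ cth_cm
    · have h2 := cast_of H.hc (m := p ^ N)
      have h3 : (c : ZMod (p ^ N)) = 0 := (ZMod.natCast_eq_zero_iff _ _).2 ⟨b', hb⟩
      rw [h3] at h2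
      push_cast at h2
      linear_combination -h2
    · have h2 := h j
      have h3 : ∀ n, (hd cm j n : ZMod (p ^ N)) * a n = -((hd cw j n : ZMod (p ^ N)) * a n) := by
        intro n
        rw [neg_w]
        push_cast
        ring
      rw [Finset.sum_congr rfl fun n _ => h3 n, Finset.sum_neg_distrib, h2]
      ring
    · intro h2
      rcases (Nat.Prime.dvd_mul hp').1 h2 with h2 | h2
      · exact hb' (hp'.dvd_of_dvd_pow h2)
      · exact hR h2
    · rw [hcard, hR', hb]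
      ring
  · -- `d = 4`
    have hd0 : d ≠ 0 := hpos H.hd (by positivity)
    obtain ⟨N, b', hb', hb⟩ := Nat.exists_eq_pow_mul_and_not_dvd hd0 p hp'.ne_one
    obtain ⟨R, hR, hR'⟩ := H.case_d h11 hpq h1
    have hN : N ≠ 0 := by
      rintro rfl
      rw [pow_zero, one_mul] at hb
      exact hb' (hb ▸ h1)
    obtain ⟨X, HX⟩ := exists_modelN_untw (a := N) hpF hpF0 hW invC_F4
      (CoxeterMatrix.F₄.toCoxeterSystem.wordProd (cw4.map Prod.fst))
    refine F4.four h11 hM d6 d9 h2 hN (congr_model HX e) ?_ (R := b' ^ 2 * R) ?_ ?_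
    · have h2 := cast_of H.hd (m := p ^ N)
      have h3 : (d : ZMod (p ^ N)) = 0 := (ZMod.natCast_eq_zero_iff _ _).2 ⟨b', hb⟩
      rw [h3] at h2
      push_cast at h2
      exact h2.symm
    · intro h2
      rcases (Nat.Prime.dvd_mul hp').1 h2 with h2 | h2
      · exact hb' (hp'.dvd_of_dvd_pow h2)
      · exact hR h2
    · rw [hcard, hR', hb]
      ring
  · -- `d = 8`
    exfalso
    obtain ⟨R, hR, hR'⟩ := H.case_e h11 hpq h1
    obtain ⟨x, hx⟩ := H77.E4ClsB.tor_F8 F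
    obtain ⟨P⟩ : Nonempty (Sylow p S) := inferInstance
    have he : e' = Nat.card F ^ 4 + 1 := by
      rw [Nat.card_eq_fintype_card]
      have := H.he
      exact_mod_cast this
    refine hP P (isCyclic_sylow (x := e.symm x) (hpos H.he (by positivity)) (hcard.trans hR') hR ?_ P)
    rw [he, MulEquiv.orderOf_eq]
    exact hx
  · -- `d = 12`
    exfalso
    obtain ⟨R, hR, hR'⟩ := H.case_h h11 hpq h1
    obtain ⟨T, hT, hcT, -⟩ := H129.CycT.exact_F4_12 (F := F) rfl H.hh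
    obtain ⟨x, hx⟩ := hT.exists_generator
    have hox : orderOf (x : ↥(chevF4.group F)) = h := by
      rw [Subgroup.orderOf_coe, orderOf_eq_card_of_forall_mem_zpowers hx, hcT]
    obtain ⟨P⟩ : Nonempty (Sylow p S) := inferInstance
    refine hP P (isCyclic_sylow (x := e.symm (x : ↥(chevF4.group F))) (hpos H.hh (by nlinarith [sq_nonneg ((q : ℤ) ^ 2 - 1)])) (hcard.trans hR') hR ?_ P)
    rw [MulEquiv.orderOf_eq, hox]

/-- **The row `F₄`.** -/
theorem row_F4 {r : ℕ} [Fact r.Prime] {F : Type} [Field F] [Fintype F] [CharP F r] (hrp : r ≠ p) (h11 : 11 ≤ p)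
    (hM : IsPModular p M) (e : Nonempty (S ≃* Lie.chevF4.group F)) (hP : H508.XR.NC p S) :
    H668.XZ.Row0 p M S := by
  have hab := H804.KB.ab_chev (S := S) hrp (by omega) (F := F) (Or.inr (Or.inl e))
  obtain ⟨e⟩ := e
  exact H364.XR.row_of_ab hM hab (x0_F4 hrp h11 hM e hP)

end Cfsg.Agent.H322.XR
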